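import Cfsg.Agent.H809.D4.Small
import Cfsg.Agent.H464.ExtRows
import Cfsg.Agent.H934.OutB

/-!
# S4832, POmega8+(q): the row (helper809)
-/

set_option autoImplicit false

open Cfsg

namespace Cfsg.Agent.H809.D4

open Cfsg.Agent.H576.Ext Cfsg.Agent.H477.HC Cfsg.Agent.H477.HC.CForm Cfsg.Agent.H53.HC
  Cfsg.Agent.LieClassical.OrthCore Cfsg.Agent.LieClassical.OrthTrans
  Cfsg.Agent.LieClassical.OrthSimple Cfsg.Agent.H624.ExtO Cfsg.Agent.ClassicalGeometry.OrthSemi
  Cfsg.Agent.ClassicalGeometry.OrthAut1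

universe u

variable (K : Type u) [Field K] [Finite K]

/-- **the rows `q = 3`, `5`** -/
theorem row_three_five {p : ℕ} (hp : p = 3 ∨ p = 5) (hq : Nat.card K = p) {r : ℕ} (hr : r.Prime)
    (hrq : ¬ r ∣ Nat.card K) (hd : r ∣ Nat.card (POmega K (quadFormPlus 4 K))) :
    HasExt r (POmega K (quadFormPlus 4 K)) := by
  have hpp : p.Prime := by rcases hp with rfl | rfl <;> norm_num
  have : Fact p.Prime := ⟨hpp⟩
  have hG := good_plusF K (m := 4) (by norm_num)
  have hfi := finite_iso (CForm.plusF K 4)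
  have hfE : Finite ↥(E (quadOf (CForm.plusF K 4) (isQuad_plus K 4))) :=
    Finite.of_surjective _ (toE_surjective _ hG)
  have hfP : Finite (P (quadOf (CForm.plusF K 4) (isQuad_plus K 4))) := inferInstance
  obtain ⟨e⟩ := pomega_equiv K
  have hfS : Finite (POmega K (quadFormPlus 4 K)) := Finite.of_equiv _ e.toEquiv.symm
  have key := dvd_key K hr hrq hd
  have h9 : ¬ 3 ^ 2 ∣ Nat.card (Cfsg.Out (POmega K (quadFormPlus 4 K))) := by
    rw [Cfsg.Agent.H934.OutB.card_out_congr e, card_out_prime K hq]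
    rcases hp with rfl | rfl <;> norm_num
  obtain ⟨D, hD, χ₁, χ₂, h1, h2, h3, h4⟩ := Cfsg.Agent.H464.ExtR3.rk3_plus_four K
  have hZ : Subgroup.center (POmega K (quadFormPlus 4 K)) = ⊥ := Cfsg.Agent.H464.ExtR3.center_plus (by norm_num)
  have f1 : r ∣ Nat.card K * (Nat.card K ^ 2 + 1) ^ 2 → HasExt r (POmega K (quadFormPlus 4 K)) := fun hdvd =>
    ⟨χ₁, χ₁.2, by rw [Cfsg.Agent.H464.ExtR3.charDegree_eq h1]; exact hdvd,
      ext_of_le hZ χ₁.2 _ hD h3.2 (Cfsg.Agent.H464.ExtR3.inn_le D) h3.1 h9⟩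
  have f2 : r ∣ Nat.card K ^ 2 * (Nat.card K ^ 4 + Nat.card K ^ 2 + 1) → HasExt r (POmega K (quadFormPlus 4 K)) :=
    fun hdvd => ⟨χ₂, χ₂.2, by rw [Cfsg.Agent.H464.ExtR3.charDegree_eq h2]; exact hdvd,
      ext_of_le hZ χ₂.2 _ hD h4.2 (Cfsg.Agent.H464.ExtR3.inn_le D) h4.1 h9⟩
  have hab : r ∣ Nat.card K * (Nat.card K ^ 2 + 1) ^ 2 ∨ r ∣ Nat.card K ^ 2 * (Nat.card K ^ 4 + Nat.card K ^ 2 + 1) := by
    rw [hq] at key hrq ⊢
    rcases hp with rfl | rfl
    · have h1 : r ∣ 2 ^ 5 * 5 ^ 2 * 7 * 13 := by norm_num at key ⊢; exact key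
      rcases hr.dvd_mul.1 h1 with h | h
      · rcases hr.dvd_mul.1 h with h | h
        · rcases hr.dvd_mul.1 h with h | h
          · have := hr.dvd_of_dvd_pow h
            exact Or.inl (this.trans (by norm_num))
          · have := hr.dvd_of_dvd_pow h
            exact Or.inl (this.trans (by norm_num))
        · exact Or.inr (h.trans (by norm_num))
      · exact Or.inr (h.trans (by norm_num))
    · have h1 : r ∣ 2 ^ 5 * 13 ^ 2 * 3 ^ 2 * 7 * 31 := by norm_num at key ⊢; exact key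
      rcases hr.dvd_mul.1 h1 with h | h
      · rcases hr.dvd_mul.1 h with h | h
        · rcases hr.dvd_mul.1 h with h | h
          · rcases hr.dvd_mul.1 h with h | h
            · have := hr.dvd_of_dvd_pow h
              exact Or.inl (this.trans (by norm_num))
            · have := hr.dvd_of_dvd_pow h
              exact Or.inl (this.trans (by norm_num))
          · have := hr.dvd_of_dvd_pow h
            exact Or.inr (this.trans (by norm_num))
        · exact Or.inr (h.trans (by norm_num))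
      · exact Or.inr (h.trans (by norm_num))
  exact hab.elim f1 f2

/-- **`POmega8+(q)`, all `q`**: every prime divisor other than the characteristic -/
theorem row_omega_plus_four {r : ℕ} (hr : r.Prime) (hrq : ¬ r ∣ Nat.card K)
    (hd : r ∣ Nat.card (POmega K (quadFormPlus 4 K))) : HasExt r (POmega K (quadFormPlus 4 K)) := by
  have h2 : 2 ≤ Nat.card K := Finite.one_lt_card
  by_cases e2 : Nat.card K = 2
  · exact row_two K e2 hr hrq hd
  by_cases e3 : Nat.card K = 3
  · exact row_three_five K (Or.inl rfl) e3 hr hrq hd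
  by_cases e5 : Nat.card K = 5
  · exact row_three_five K (Or.inr rfl) e5 hr hrq hd
  exact row_gen K (by omega) e5 hr hrq hd

end Cfsg.Agent.H809.D4
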