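import Cfsg.Agent.H809.D4.Gen
import Cfsg.Agent.H576.Ext.Row

/-!
# S4832, POmega8+(q), q ≥ 4, q ≠ 5 (helper809)
-/

set_option autoImplicit false

open scoped ComplexConjugate commutatorElement
open Cfsg

namespace Cfsg.Agent.H809.D4

open Cfsg.Agent.H576.Ext Cfsg.Agent.H477.HC Cfsg.Agent.H477.HC.CForm Cfsg.Agent.H53.HC Cfsg.Agent.Characters Module
  QuadraticMap Cfsg.Agent.LieClassical.OrthCore Cfsg.Agent.LieClassical.OrthTrans
  Cfsg.Agent.LieClassical.OrthSimple Cfsg.Agent.ClassicalGeometry.OrthSemi Cfsg.Agent.ClassicalGeometry.OrthAut1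
  Cfsg.Agent.H624.ExtO Cfsg.Agent.H989.OutOrth.Basic

universe u v

/-- **the generic character**, `k = 2` -/
theorem exists_gen {K : Type u} [Field K] [Finite K] {V : Type v} [AddCommGroup V] [Module K V]
    [FiniteDimensional K V] [Finite V] {F : CForm K V} (h : IsQuad F) (hG : Good (quadOf F h))
    (hT : Tri (quadOf F h) hG) (hq : 4 ≤ Nat.card K) (h5 : Nat.card K ≠ 5)
    {W₀ : Submodule K V} (hW₀ : W₀ ∈ F.Om 2)
    (hval : ∀ c : K, c ≠ 0 → ∃ v : V, F.Q v = c ∧ ∀ w ∈ W₀, F.B v w = 0) :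
    ∃ θ : P (quadOf F h) → ℂ, IsIrrCharacter _ θ ∧ θ 1 = dg F 2 ∧ ExtTo θ (stab θ) := by
  classical
  have hfi := finite_iso F
  have hfo := finite_Om F 2
  let _ := Fintype.ofFinite (F.Om 2)
  let _ := Fintype.ofFinite F.iso
  let _ := Fintype.ofFinite (commutator F.iso)
  have hfE : Finite ↥(E (quadOf F h)) := Finite.of_surjective _ (toE_surjective h hG)
  have hfP : Finite (P (quadOf F h)) := inferInstance
  have hσ : F.σ = RingHom.id K := RingHom.ext h.σ
  obtain ⟨c, hc, hself, hopp, hgen⟩ := exists_par (K := K) hq h5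
  have hN : HasRoots F (commutator F.iso) := hasRoots_of_comm F le_rfl (by
    have := Fintype.ofFinite K
    rw [Nat.card_eq_fintype_card] at hq
    by_contra hcon
    push Not at hcon
    have h1 : (Finset.univ : Finset K) ⊆ {0, 1} := by
      intro t _
      by_cases h0 : t = 0
      · simp [h0]
      · simp [hcon t h0]
    have h2 := Finset.card_le_card h1
    rw [Finset.card_univ] at h2
    have h4 := Finset.card_le_two (a := (0 : K)) (b := 1)
    omega)
  have hD := hasLevi_sq h.σ le_rfl hN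
  have hcl := Core.isIrr_isClassFunction hc.irr
  have hc' : CusG K 2 F.σ c := by rw [hσ]; exact hc
  obtain ⟨θ, e, hθ, he, he1, he2, he0, h0⟩ := exists_below (qE h hG) (qE_surjective h hG)
    (fun n hn => (qE_ker h hG n).1 hn) (by norm_num) hW₀ hc'
  have hχ := F.isIrr_hc_one hc.irr hc.cusp hc'.dual hW₀
  have hopp' : DOrth ((powMonoidHom 2 : Kˣ →* Kˣ).range) c (c ∘ F.iota 2) := by
    have : c ∘ F.iota 2 = dualc (RingHom.id K) c := by rw [← hσ]; rfl
    rw [this]
    exact @hopp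
  have hirr := isIrr_hc_sub F le_rfl hN hD hc.irr hc.cusp hself (@hopp') hW₀
    fun W hW => trans_comm h hG hW₀ hW hval
  -- `θ ∘ q` is the restriction of `hc`
  have hθq : IsIrrCharacter (commutator F.iso) (fun n => θ (qE h hG n)) :=
    Core.isIrr_comp (qE h hG) (qE_surjective h hG) hθ
  have heq : (fun n : commutator F.iso => F.hc c (fun _ _ => 1) n) = fun n => θ (qE h hG n) := by
    by_contra hne
    exact h0 (Core.classInner_irr_ne hirr hθq hne)
  have hθχ : ∀ n : commutator F.iso, θ (qE h hG n) = F.hc c (fun _ _ => 1) n := fun n => (congrFun heq n).symm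
  have hχ1 : F.hc c (fun _ _ => 1) 1 = (dg F 2 : ℂ) := by
    rw [F.hc_one hcl (fun _ _ => 1) (d := 1) (fun _ _ => rfl), hc.deg, mul_one]
    unfold dg
    rw [Nat.cast_mul]
  have hZ := center_P h hG
  refine ⟨θ, hθ, ?_, ?_⟩
  · rw [← hχ1, ← map_one (qE h hG), hθχ]
    rfl
  obtain ⟨ρ, r, hρ, hρ3, hκρ⟩ := hT.rho
  have hI : (MulAut.conj (G := P (quadOf F h))).range ≤ (Psi (quadOf F h)).range := Inn_le_range
  refine ext_index_three hZ hθ (Psi (quadOf F h)).range hT.index hI ?_ ?_ hρ hρ3 ⟨_, rfl⟩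
    (psi_ofO_mem_stab h hG (Core.isIrr_isClassFunction hχ) hθχ r) hκρ
  · refine ext_hc_sub F le_rfl (hNn h hG) hN hD hc.irr hc.cusp hc'.dual hself (by rw [hσ]; exact @hopp)
      (fun τ hτ => by rw [hσ]; exact hgen τ hτ) hc'.nu hZ (qE h hG) (qE_surjective h hG) (qE_ker h hG)
      (Psi (quadOf F h)).range hI (fun α hα => aut_of_range h hG hα) hθ ?_
    exact h0
  · intro h3
    refine hT.card (h3.trans (relIndex_dvd hG ?_))
    rintro α ⟨⟨M, rfl⟩, hα⟩
    exact ⟨M, rfl, sg_eq_one h hG hc hN hD hgen hθ h0 hα⟩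

end Cfsg.Agent.H809.D4
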