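import Cfsg.Agent.H699.CusG
import Cfsg.Agent.H477.HC.Groups

/-!
# S4832, POmega8+(q): the parameter (helper809)

* `isIrr_of_comp` : a character with an irreducible restriction is irreducible;
* `DOrth.mono`, `DIrr.mono`;
* `exists_par` : the cuspidal parameter of `GL_2(q)`, orthogonal to its dual on the matrices of square determinant.
-/

set_option autoImplicit false

open scoped ComplexConjugate commutatorElement
open Cfsg

namespace Cfsg.Agent.H809.D4

open Cfsg.Agent.H576.Ext Cfsg.Agent.H477.HC Cfsg.Agent.H53.HC Cfsg.Agent.Characters Module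
  Cfsg.Agent.OddOrderCharacters.Clifford

universe u v

theorem eq_zero_of_one {G : Type*} [Group G] {α : G → ℂ} (hα : IsCharacter G α) (h : α 1 = 0) : α = 0 := by
  obtain ⟨n, ρ, rfl⟩ := hα
  have h1 : (n : ℂ) = 0 := by
    have := h
    rw [show ρ.character 1 = (Module.finrank ℂ (Fin n → ℂ) : ℂ) from Representation.char_one ρ] at this
    rwa [Module.finrank_fin_fun] at this
  have h2 : n = 0 := by exact_mod_cast h1
  subst h2
  funext g
  show LinearMap.trace ℂ _ (ρ g) = 0
  have : ρ g = 0 := Subsingleton.elim _ _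
  rw [this, map_zero]

/-- a character whose pullback is irreducible is irreducible -/
theorem isIrr_of_comp {D L : Type*} [Group D] [Finite D] [Group L] [Finite L] (f : L →* D) {α : D → ℂ}
    (hα : IsCharacter D α) (h : IsIrrCharacter L (α ∘ f)) : IsIrrCharacter D α := by
  classical
  let _ : Fintype D := Fintype.ofFinite D
  let _ : Fintype L := Fintype.ofFinite L
  have h1 : α 1 ≠ 0 := by
    have := Core.isIrr_apply_one_ne_zero h
    rwa [Function.comp_apply, map_one] at this
  obtain ⟨θ, hθ, hθ'⟩ := exists_constituent hα h1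
  have ha := isCharacter_sub_irr hα hθ hθ'
  have hc : IsCharacter L (θ ∘ f) := Core.isCharacter_comp f (Core.isIrr_isCharacter hθ)
  have ha' : IsCharacter L ((α - θ) ∘ f) := Core.isCharacter_comp f ha
  have e1 : α ∘ f = θ ∘ f + (α - θ) ∘ f := by ext x; simp
  have h2 := Core.classInner_irr_self h
  rw [e1, Core.classInner_add_left, Core.classInner_add_right, Core.classInner_add_right] at h2
  obtain ⟨a, ea⟩ := Core.classInner_isNat hc hc
  obtain ⟨b, eb⟩ := Core.classInner_isNat hc ha'
  obtain ⟨c, ec⟩ := Core.classInner_isNat ha' hc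
  obtain ⟨d, ed⟩ := Core.classInner_isNat ha' ha'
  rw [ea, eb, ec, ed] at h2
  have h3 : a + b + (c + d) = 1 := by exact_mod_cast h2
  have h4 : a ≠ 0 := by
    rintro rfl
    rw [Nat.cast_zero] at ea
    have h5 := Core.classInner_self_eq_zero ea
    have h6 := congrFun h5 1
    simp only [Function.comp_apply, map_one, Pi.zero_apply] at h6
    exact Core.isIrr_apply_one_ne_zero hθ h6
  have h5 : d = 0 := by omega
  rw [h5, Nat.cast_zero] at ed
  have h6 := congrFun (Core.classInner_self_eq_zero ed) 1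
  simp only [Function.comp_apply, map_one, Pi.zero_apply] at h6
  have h7 := eq_zero_of_one ha h6
  rw [sub_eq_zero] at h7
  rw [h7]
  exact hθ

variable {K : Type u} [Field K] {k : ℕ}

/-- inclusion of the matrix groups -/
theorem DL_mono {D D' : Subgroup Kˣ} (h : D ≤ D') : DL D k ≤ DL D' k := Subgroup.comap_mono h

variable [Finite K]

theorem DOrth.mono {D D' : Subgroup Kˣ} (h : D ≤ D') {c c' : GL (Fin k) K → ℂ} (hc : IsIrrCharacter _ c)
    (hc' : IsIrrCharacter _ c') (h0 : DOrth D c c') : DOrth D' c c' := by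
  classical
  intro inst
  have : Finite (Matrix (Fin k) (Fin k) K) := inferInstance
  have : Finite (GL (Fin k) K) := inferInstance
  let _ : Fintype (DL D k) := Fintype.ofFinite _
  have h1 := classInner_eq_zero_of_comp (Subgroup.inclusion (DL_mono (k := k) h))
    (Core.isCharacter_comp (DL D' k).subtype (Core.isIrr_isCharacter hc))
    (Core.isCharacter_comp (DL D' k).subtype (Core.isIrr_isCharacter hc')) (by
      rw [Core.classInner_def]
      have : ∑ A : DL D k, ((c ∘ (DL D' k).subtype) ∘ (Subgroup.inclusion (DL_mono (k := k) h))) A *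
          conj (((c' ∘ (DL D' k).subtype) ∘ (Subgroup.inclusion (DL_mono (k := k) h))) A) = 0 := h0
      rw [this, mul_zero])
  rw [Core.classInner_def] at h1
  exact (mul_eq_zero.1 h1).resolve_left (inv_ne_zero Core.card_ne_zero_complex)

theorem DIrr.mono {D D' : Subgroup Kˣ} (h : D ≤ D') {c : GL (Fin k) K → ℂ} (hc : IsIrrCharacter _ c)
    (h0 : DIrr D c) : DIrr D' c := by
  have : Finite (Matrix (Fin k) (Fin k) K) := inferInstance
  have : Finite (GL (Fin k) K) := inferInstance
  exact isIrr_of_comp (Subgroup.inclusion (DL_mono (k := k) h))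
    (Core.isCharacter_comp (DL D' k).subtype (Core.isIrr_isCharacter hc)) h0

/-- the dual is irreducible -/
theorem isIrr_dualc (σ : K →+* K) (hσ : ∀ a, σ a = a) {c : GL (Fin k) K → ℂ} (hc : IsIrrCharacter _ c) :
    IsIrrCharacter _ (dualc σ c) := by
  have : Finite (Matrix (Fin k) (Fin k) K) := inferInstance
  have : Finite (GL (Fin k) K) := inferInstance
  have e : σ = RingHom.id K := RingHom.ext hσ
  subst e
  refine Core.isIrr_comp _ ?_ hc
  intro A
  exact ⟨invT k A, invT_invT A⟩

theorem isIrr_fmap (τ : K ≃+* K) {c : GL (Fin k) K → ℂ} (hc : IsIrrCharacter _ c) :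
    IsIrrCharacter _ (fmap (τ : K →+* K) c) := by
  have : Finite (Matrix (Fin k) (Fin k) K) := inferInstance
  have : Finite (GL (Fin k) K) := inferInstance
  refine Core.isIrr_comp _ ?_ hc
  intro A
  refine ⟨Matrix.GeneralLinearGroup.map (τ.symm : K →+* K) A, ?_⟩
  ext i j
  show τ (τ.symm (A i j)) = A i j
  rw [τ.apply_symm_apply]

/-- **the parameter** -/
theorem exists_par (hq : 4 ≤ Nat.card K) (h5 : Nat.card K ≠ 5) :
    ∃ c : GL (Fin 2) K → ℂ, CusG K 2 (RingHom.id K) c ∧
      DIrr ((powMonoidHom 2 : Kˣ →* Kˣ).range) c ∧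
      DOrth ((powMonoidHom 2 : Kˣ →* Kˣ).range) c (dualc (RingHom.id K) c) ∧
      ∀ τ : K ≃+* K, (∃ x, τ x ≠ x) → GenAt K 2 (RingHom.id K) ((powMonoidHom 2 : Kˣ →* Kˣ).range) τ c := by
  classical
  have key : ∃ c : GL (Fin 2) K → ℂ, CusG K 2 (RingHom.id K) c ∧
      DOrth ((powMonoidHom 2 : Kˣ →* Kˣ).range) c (dualc (RingHom.id K) c) ∧
      ∀ τ : K ≃+* K, (∃ x, τ x ≠ x) → GenAt K 2 (RingHom.id K) ⊥ τ c := by
    rcases Nat.even_or_odd (Nat.card K) with he | ho
    · obtain ⟨c, hc, hgen⟩ := exists_cusG (K := K) rfl 2 le_rfl (by omega) (by omega)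
      refine ⟨c, hc, ?_, hgen⟩
      -- the squares are everything
      have htop : (powMonoidHom 2 : Kˣ →* Kˣ).range = ⊤ := by
        rw [MonoidHom.range_eq_top]
        apply Finite.surjective_of_injective
        rw [injective_iff_map_eq_one]
        intro a ha
        have ha' : a ^ 2 = 1 := ha
        have h1 := orderOf_dvd_of_pow_eq_one ha'
        have h2 : orderOf a ∣ Nat.card Kˣ := orderOf_dvd_natCard a
        rw [Nat.card_units] at h2
        have h3 : ¬ 2 ∣ Nat.card K - 1 := by
          obtain ⟨m, hm⟩ := he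
          omega
        rcases (Nat.dvd_prime Nat.prime_two).1 h1 with h | h
        · exact orderOf_eq_one_iff.1 h
        · rw [h] at h2; exact absurd h2 h3
      rw [htop]
      intro inst
      have : Finite (Matrix (Fin 2) (Fin 2) K) := inferInstance
      have : Finite (GL (Fin 2) K) := inferInstance
      let _ : Fintype (GL (Fin 2) K) := Fintype.ofFinite _
      have h1 := Core.classInner_irr_ne hc.irr (isIrr_dualc (RingHom.id K) (fun _ => rfl) hc.irr)
        (fun h => hc.dual h.symm)
      rw [Core.classInner_def] at h1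
      have h2 := (mul_eq_zero.1 h1).resolve_left (inv_ne_zero Core.card_ne_zero_complex)
      rw [← h2]
      have e : DL (⊤ : Subgroup Kˣ) 2 = ⊤ := Subgroup.comap_top _
      refine Fintype.sum_equiv ((MulEquiv.subgroupCongr e).trans Subgroup.topEquiv).toEquiv _ _ fun A => rfl
    · obtain ⟨c, hc, hgen, h⟩ := exists_cusG_two (K := K) rfl ho (by
        obtain ⟨m, hm⟩ := ho
        omega)
      exact ⟨c, hc, h, hgen⟩
  obtain ⟨c, hc, hdual, hgen⟩ := key
  refine ⟨c, hc, DIrr.mono bot_le hc.irr hc.self, hdual, fun τ hτ => ⟨?_, ?_⟩⟩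
  · exact DOrth.mono bot_le hc.irr (isIrr_fmap τ hc.irr) (hgen τ hτ).1
  · exact DOrth.mono bot_le hc.irr (isIrr_dualc _ (fun _ => rfl) (isIrr_fmap τ hc.irr)) (hgen τ hτ).2

end Cfsg.Agent.H809.D4
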