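import Cfsg.Agent.H809.D4.GenMain

/-!
# S4832, POmega8+(q): the rows q ≥ 4, q ≠ 5, and q = 2 (helper809)
-/

set_option autoImplicit false

open scoped ComplexConjugate commutatorElement
open Cfsg

namespace Cfsg.Agent.H809.D4

open Cfsg.Agent.H576.Ext Cfsg.Agent.H477.HC Cfsg.Agent.H477.HC.CForm Cfsg.Agent.H53.HC Cfsg.Agent.Characters Module
  QuadraticMap Cfsg.Agent.LieClassical.OrthCore Cfsg.Agent.LieClassical.OrthTrans
  Cfsg.Agent.LieClassical.OrthSimple Cfsg.Agent.ClassicalGeometry.OrthSemi Cfsg.Agent.ClassicalGeometry.OrthAut1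
  Cfsg.Agent.H624.ExtO Cfsg.Agent.H989.OutOrth.Basic

universe u v

section

variable (K : Type u) [Field K]

theorem isQuad_plus (m : ℕ) : IsQuad (CForm.plusF K m) := ⟨fun _ => rfl, plus_hB K m⟩

theorem quadOf_plus (m : ℕ) :
    quadOf (CForm.plusF K m) (isQuad_plus K m) = Cfsg.Agent.LieClassical.QuadForms.plusForm m K := by
  rw [← Cfsg.Agent.AutOrth.Main.plusForm_eq]
  apply DFunLike.coe_injective
  rw [LieClassical.OrthForms.coe_plusForm]
  rfl

variable [Finite K]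

theorem good_plusF {m : ℕ} (hm : 3 ≤ m) : Good (quadOf (CForm.plusF K m) (isQuad_plus K m)) := by
  have := Fintype.ofFinite K
  rw [quadOf_plus, ← Cfsg.Agent.AutOrth.Main.plusForm_eq]
  exact Cfsg.Agent.ClassicalGeometry.OrthSemiForms.good_plus hm

omit [Finite K] in
/-- transport of a statement on `plusForm 4` -/
theorem transport {p : ∀ Q : QuadraticForm K (Fin 4 ⊕ Fin 4 → K), Good Q → Prop}
    (h : ∀ hG, p (Cfsg.Agent.LieClassical.QuadForms.plusForm 4 K) hG) (hG) :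
    p (quadOf (CForm.plusF K 4) (isQuad_plus K 4)) hG := by
  have key : ∀ Q : QuadraticForm K (Fin 4 ⊕ Fin 4 → K), Q = Cfsg.Agent.LieClassical.QuadForms.plusForm 4 K →
      ∀ hG : Good Q, p Q hG := by
    rintro Q rfl hG
    exact h hG
  exact key _ (quadOf_plus K 4) hG

theorem pomega_equiv : Nonempty (POmega K (quadFormPlus 4 K) ≃* P (quadOf (CForm.plusF K 4) (isQuad_plus K 4))) :=
  ⟨Cfsg.Agent.ClassicalGeometry.OrthSemiForms.pomegaEquiv (Q := quadOf (CForm.plusF K 4) (isQuad_plus K 4))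
    (good_plusF K (by norm_num))⟩

theorem hasExt_pomega {r : ℕ} (h : HasExt r (P (quadOf (CForm.plusF K 4) (isQuad_plus K 4)))) :
    HasExt r (POmega K (quadFormPlus 4 K)) := by
  have hfi := finite_iso (CForm.plusF K 4)
  have hfE : Finite ↥(E (quadOf (CForm.plusF K 4) (isQuad_plus K 4))) :=
    Finite.of_surjective _ (toE_surjective _ (good_plusF K (by norm_num)))
  obtain ⟨e⟩ := pomega_equiv K
  have : Finite (POmega K (quadFormPlus 4 K)) := Finite.of_equiv _ e.toEquiv.symm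
  exact HasExt.of_equiv e h

/-- the degree -/
theorem dvd_dg {p : ℕ} [Fact p.Prime] [CharP K p] :
    ∃ e, (Nat.card K ^ 2 + 1) * (Nat.card K ^ 2 + 1) * (Nat.card K ^ 6 - 1) ∣ p ^ e * dg (CForm.plusF K 4) 2 := by
  refine key_div (by norm_num) ?_
  obtain ⟨e, he⟩ := plus_dvd K (p := p) (k := 2) (n := 2) (by norm_num) (by norm_num)
  refine ⟨e, (dvd_of_eq ?_).trans he⟩
  have h1 : Nat.card K ^ (2 + 2) - 1 = (Nat.card K ^ 2 + 1) * (Nat.card K ^ 2 - 1) := sq_sub _ 2
  have h2 : ∏ i ∈ Finset.Ico 2 (2 + 2 - 1), (Nat.card K ^ (2 * (i + 1)) - 1) = Nat.card K ^ 6 - 1 := by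
    rw [show (2 + 2 - 1) = 2 + 1 from rfl, Finset.prod_Ico_succ_top (le_refl 2), Finset.Ico_self, Finset.prod_empty,
      one_mul]
  rw [h1, h2]
  ring

/-- the prime divisors of the order, other than the characteristic -/
theorem dvd_key {r : ℕ} (hr : r.Prime) (hrq : ¬ r ∣ Nat.card K)
    (hd : r ∣ Nat.card (POmega K (quadFormPlus 4 K))) :
    r ∣ (Nat.card K ^ 2 + 1) * (Nat.card K ^ 2 + 1) * (Nat.card K ^ 6 - 1) := by
  have hq1 : 1 ≤ Nat.card K := Nat.card_pos
  have h6 : r ∣ Nat.card K ^ 2 - 1 → r ∣ Nat.card K ^ 6 - 1 := by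
    intro h
    have := Nat.sub_dvd_pow_sub_pow (Nat.card K ^ 2) 1 3
    rw [one_pow, ← pow_mul] at this
    exact h.trans this
  have h4 : r ∣ Nat.card K ^ 4 - 1 → r ∣ (Nat.card K ^ 2 + 1) * (Nat.card K ^ 2 + 1) * (Nat.card K ^ 6 - 1) := by
    intro h
    have h1 : Nat.card K ^ 4 - 1 = (Nat.card K ^ 2 + 1) * (Nat.card K ^ 2 - 1) := sq_sub _ 2
    rw [h1] at h
    rcases hr.dvd_mul.1 h with h | h
    · exact Dvd.dvd.mul_right (Dvd.dvd.mul_right h _) _
    · exact Dvd.dvd.mul_left (h6 h) _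
  by_cases h2r : r = 2
  · -- `q` is odd
    subst h2r
    have ho : Odd (Nat.card K) := by
      rw [← Nat.not_even_iff_odd, even_iff_two_dvd]
      exact hrq
    exact h4 (Nat.Odd.sub_odd (ho.pow) odd_one).two_dvd
  have hd1 : r ∣ Nat.card (isometryGroup K (quadFormPlus 4 K)) :=
    hd.trans ((Subgroup.card_quotient_dvd_card _).trans (Subgroup.card_subgroup_dvd_card _))
  have hd2 : r ∣ Nat.card (CForm.plusF K 4).iso := by
    rwa [← Nat.card_congr (isoQuad (CForm.plusF K 4) (plus_hB K 4)).toEquiv]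
  rw [card_plusF K (by omega)] at hd2
  rcases hr.dvd_mul.1 hd2 with h | h
  · rcases hr.dvd_mul.1 h with h | h
    · rcases hr.dvd_mul.1 h with h | h
      · exact absurd ((Nat.prime_dvd_prime_iff_eq hr Nat.prime_two).1 h) h2r
      · exact absurd (hr.dvd_of_dvd_pow h) hrq
    · exact h4 h
  · have h' : r ∣ (Nat.card K ^ 2 - 1) * (Nat.card K ^ 4 - 1) * (Nat.card K ^ 6 - 1) := by
      have : ∏ i ∈ Finset.range (4 - 1), (Nat.card K ^ (2 * (i + 1)) - 1) =
          (Nat.card K ^ 2 - 1) * (Nat.card K ^ 4 - 1) * (Nat.card K ^ 6 - 1) := by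
        rw [show (4 - 1) = 3 from rfl, Finset.prod_range_succ, Finset.prod_range_succ, Finset.prod_range_one]
      rwa [this] at h
    rcases hr.dvd_mul.1 h' with h | h
    · rcases hr.dvd_mul.1 h with h | h
      · exact Dvd.dvd.mul_left (h6 h) _
      · exact h4 h
    · exact Dvd.dvd.mul_left h _

/-- every prime divisor of the order, not the characteristic, divides the degree -/
theorem dvd_dg_of {p : ℕ} [Fact p.Prime] [CharP K p] {r : ℕ} (hr : r.Prime) (hrp : r ≠ p)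
    (hrq : ¬ r ∣ Nat.card K)
    (hd : r ∣ Nat.card (POmega K (quadFormPlus 4 K))) : r ∣ dg (CForm.plusF K 4) 2 := by
  have hp : p.Prime := Fact.out
  obtain ⟨e, he⟩ := dvd_dg K (p := p)
  have := prime_pow_dvd (t := 1) hr hp hrp (by rw [pow_one]; exact (dvd_key K hr hrq hd).trans he)
  rwa [pow_one] at this

/-- **the rows `q ≥ 4`, `q ≠ 5`** -/
theorem row_gen (hq : 4 ≤ Nat.card K) (h5 : Nat.card K ≠ 5) {r : ℕ} (hr : r.Prime) (hrq : ¬ r ∣ Nat.card K)
    (hd : r ∣ Nat.card (POmega K (quadFormPlus 4 K))) : HasExt r (POmega K (quadFormPlus 4 K)) := by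
  have := Fintype.ofFinite K
  obtain ⟨p, hp⟩ := CharP.exists K
  have hpp : p.Prime := CharP.char_is_prime K p
  have : Fact p.Prime := ⟨hpp⟩
  have hrp : r ≠ p := by
    rintro rfl
    obtain ⟨s, hs⟩ := card_pow K r
    apply hrq
    rw [hs]
    apply dvd_pow_self
    rintro rfl
    rw [pow_zero] at hs
    omega
  have hG := good_plusF K (m := 4) (by norm_num)
  obtain ⟨e, f, j, hfr⟩ := frm_plus (K := K) (k := 2) (n := 2) (m := 4) rfl
  obtain ⟨e', f', j', hfr'⟩ := frm_plus (K := K) (k := 1) (n := 1) (m := 2) rfl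
  have hW₀ := (CForm.plusF K 4).frame_mem_Om hfr.hee hfr.hef hfr.hQe
  have hperp : ∀ x, ∀ w ∈ Submodule.span K (Set.range e), (CForm.plusF K 4).B (j x) w = 0 := by
    intro x w hw
    obtain ⟨g, rfl⟩ := (Submodule.mem_span_range_iff_exists_fun K).1 hw
    rw [B_sum_right]
    exact Finset.sum_eq_zero fun i _ => by rw [hfr.hje, mul_zero]
  obtain ⟨θ, hθ, hθ1, hext⟩ := exists_gen (isQuad_plus K 4) hG (transport K (fun hG => tri_four hG) hG) hq h5 hW₀
    (fun c _ => exists_val (isQuad_plus K 4) hW₀ hW₀ (x := j (e' 0)) (y := j (f' 0))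
      (by rw [hfr.hjQ]; exact hfr'.hQe 0) (by rw [hfr.hjQ]; exact hfr'.hQf 0)
      (by rw [hfr.hjB, hfr'.hef, if_pos rfl]) (hperp _) (hperp _) c)
  refine hasExt_pomega K ⟨θ, hθ, ?_, hext⟩
  rw [H670.PSing.charDegree_eq_of hθ1]
  exact dvd_dg_of K hr hrp hrq hd

end

end Cfsg.Agent.H809.D4
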