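import Cfsg.Agent.H624.ExtOrthBase

/-!
# S4832, POmega8+(q): transitivity of the commutator group on totally singular subspaces (helper809)
-/

set_option autoImplicit false

open scoped ComplexConjugate commutatorElement
open Cfsg

namespace Cfsg.Agent.H809.D4

open Cfsg.Agent.H576.Ext Cfsg.Agent.H477.HC Cfsg.Agent.H477.HC.CForm Cfsg.Agent.H53.HC Cfsg.Agent.Characters Module
  QuadraticMap Cfsg.Agent.LieClassical.OrthCore Cfsg.Agent.LieClassical.OrthTrans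
  Cfsg.Agent.LieClassical.OrthSimple Cfsg.Agent.ClassicalGeometry.OrthSemi Cfsg.Agent.ClassicalGeometry.OrthAut1
  Cfsg.Agent.H624.ExtO

universe u v

variable {K : Type u} [Field K] {V : Type v} [AddCommGroup V] [Module K V]

/-- `O = E · (pointwise stabiliser of W)` if every value is taken on the orthogonal space of `W` -/
theorem exists_mul_fix [FiniteDimensional K V] {Q : QuadraticForm K V} (hG : Good Q) (W : Submodule K V)
    (hval : ∀ c : K, c ≠ 0 → ∃ v : V, Q v = c ∧ ∀ w ∈ W, polar Q v w = 0) {g : V ≃ₗ[K] V} (hg : g ∈ O Q) :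
    ∃ n ∈ E Q, ∃ s ∈ O Q, (∀ w ∈ W, s w = w) ∧ g = n * s := by
  rw [O_eq_closure hG.nondeg] at hg
  induction hg using Subgroup.closure_induction with
  | mem x hx =>
    rcases hx with ⟨v, hv, rfl⟩ | hx
    · obtain ⟨v', hv', hW⟩ := hval (Q v) hv
      have hv0 : Q v' ≠ 0 := by rw [hv']; exact hv
      refine ⟨refl Q v hv * refl Q v' hv0, hG.refl_mul_refl_mem hv0 hv hv', refl Q v' hv0, refl_mem_O hv0,
        fun w hw => ?_, ?_⟩
      · rw [refl_apply, hW w hw]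
        simp
      · rw [mul_assoc, refl_mul_self, mul_one]
    · exact ⟨x, Subgroup.subset_closure hx, 1, one_mem _, fun w _ => rfl, (mul_one x).symm⟩
  | one => exact ⟨1, one_mem _, 1, one_mem _, fun w _ => rfl, (mul_one 1).symm⟩
  | mul x y _ _ hx hy =>
    obtain ⟨n, hn, s, hs, hsW, rfl⟩ := hx
    obtain ⟨n', hn', s', hs', hsW', rfl⟩ := hy
    refine ⟨n * (s * n' * s⁻¹), (E Q).mul_mem hn (conj_mem_E hs hn'), s * s', (O Q).mul_mem hs hs', fun w hw => ?_,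
      by group⟩
    rw [LinearEquiv.mul_apply, hsW' w hw, hsW w hw]
  | inv x _ hx =>
    obtain ⟨n, hn, s, hs, hsW, rfl⟩ := hx
    have hi : ∀ w ∈ W, s⁻¹ w = w := fun w hw => by
      have : s⁻¹ (s w) = w := s.symm_apply_apply w
      rwa [hsW w hw] at this
    refine ⟨s⁻¹ * n⁻¹ * s⁻¹⁻¹, conj_mem_E ((O Q).inv_mem hs) ((E Q).inv_mem hn), s⁻¹, (O Q).inv_mem hs, hi, ?_⟩
    group

/-- transitivity on `F.Om k` -/
theorem trans_comm [FiniteDimensional K V] {F : CForm K V} (h : IsQuad F) (hG : Good (quadOf F h)) {k : ℕ}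
    {W₀ W : Submodule K V} (hW₀ : W₀ ∈ F.Om k) (hW : W ∈ F.Om k)
    (hval : ∀ c : K, c ≠ 0 → ∃ v : V, F.Q v = c ∧ ∀ w ∈ W₀, F.B v w = 0) :
    ∃ g ∈ commutator F.iso, W₀.map (F.iso.subtype g : V →ₗ[K] V) = W := by
  obtain ⟨g, hg⟩ := F.trans_Om hW₀ hW
  have hgO : (g : V ≃ₗ[K] V) ∈ O (quadOf F h) := by rw [← iso_eq h]; exact g.2
  obtain ⟨n, hn, s, hs, hsW, e⟩ := exists_mul_fix hG W₀ (fun c hc => by
    obtain ⟨v, hv, hv'⟩ := hval c hc
    exact ⟨v, hv, fun w hw => by rw [polar_quadOf h]; exact hv' w hw⟩) hgO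
  obtain ⟨n', hn'⟩ := toE_surjective h hG ⟨n, hn⟩
  refine ⟨n', n'.2, ?_⟩
  rw [← hg]
  have h1 : ∀ w ∈ W₀, ((n' : F.iso) : V ≃ₗ[K] V) w = (g : V ≃ₗ[K] V) w := by
    intro w hw
    rw [← toE_apply h hG, hn', e, LinearEquiv.mul_apply, hsW w hw]
  apply le_antisymm
  · rintro _ ⟨w, hw, rfl⟩
    exact ⟨w, hw, (h1 w hw).symm⟩
  · rintro _ ⟨w, hw, rfl⟩
    exact ⟨w, hw, h1 w hw⟩

/-- all values are taken on the orthogonal space of `W` -/
theorem exists_val [FiniteDimensional K V] {F : CForm K V} (h : IsQuad F) {k : ℕ} {W W₁ : Submodule K V}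
    (hW : W ∈ F.Om k) (hW₁ : W₁ ∈ F.Om k) {x y : V} (hx : F.Q x = 0) (hy : F.Q y = 0) (hxy : F.B x y = 1)
    (hxW : ∀ w ∈ W₁, F.B x w = 0) (hyW : ∀ w ∈ W₁, F.B y w = 0) (c : K) :
    ∃ v : V, F.Q v = c ∧ ∀ w ∈ W, F.B v w = 0 := by
  obtain ⟨g, hg⟩ := F.trans_Om hW₁ hW
  refine ⟨(g : V ≃ₗ[K] V) (x + c • y), ?_, fun w hw => ?_⟩
  · rw [F.iso_Q]
    have h1 := h.B x (c • y)
    rw [F.B_smul_right, h.σ, hxy, mul_one, F.Q_smul, hx, hy, mul_zero, sub_zero, sub_zero] at h1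
    exact h1.symm
  · rw [← hg] at hw
    obtain ⟨w', hw', rfl⟩ := hw
    refine (F.iso_B g (x + c • y) w').trans ?_
    rw [F.B_add_left, F.B_smul_left, hxW w' hw', hyW w' hw', mul_zero, add_zero]

end Cfsg.Agent.H809.D4
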